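import Mathlib

/-!
# Lemma B (helper207, S2452, `E₈(2)`)

Every matrix `M` in `SL_8(2)` has a conjugate whose upper left `2 × 2` block is the identity.
-/

set_option autoImplicit false

namespace Cfsg.Agent.H207.E2

open Matrix Module

variable {K : Type*} [Field K]

theorem two (hK : Nat.card K = 2) (x : K) : x = 0 ∨ x = 1 := by
  have : Finite K := Nat.finite_of_card_ne_zero (by rw [hK]; norm_num)
  have := Fintype.ofFinite K
  classical
  by_contra h
  push Not at h
  have h1 : ({0, 1, x} : Finset K).card ≤ Fintype.card K := Finset.card_le_univ _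
  rw [← Nat.card_eq_fintype_card, hK, Finset.card_insert_of_notMem (by simp [h.1.symm]),
    Finset.card_insert_of_notMem (by simp [h.2.symm]), Finset.card_singleton] at h1
  omega

theorem add_self (hK : Nat.card K = 2) {V : Type*} [AddCommGroup V] [Module K V] (v : V) : v + v = 0 := by
  have h : (1 : K) + 1 = 0 := by
    rcases two hK ((1 : K) + 1) with h | h
    · exact h
    · exact absurd (add_eq_left.1 h) one_ne_zero
  have h1 : v + v = ((1 : K) + 1) • v := by rw [add_smul, one_smul]
  rw [h1, h, zero_smul]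

section

variable {V : Type*} [AddCommGroup V] [Module K V]

/-- the good pairs of vectors -/
structure GP (f : V →ₗ[K] V) (a b : V) : Prop where
  a0 : a ≠ 0
  b0 : b ≠ 0
  ab : a ≠ b
  h : ∀ e, (e = a ∨ e = b ∨ e = a + b) → ∀ e', (e' = a ∨ e' = b ∨ e' = a + b) → f e + e ≠ e'

theorem exists_gp (hK : Nat.card K = 2) [Finite V] (hV : 16 ≤ Nat.card V) (f : V ≃ₗ[K] V) :
    ∃ a b, GP (f : V →ₗ[K] V) a b := by
  classical
  have hadd : ∀ v : V, v + v = 0 := add_self hK
  have hneg : ∀ v : V, -v = v := fun v => neg_eq_of_add_eq_zero_left (hadd v)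
  have hsub : ∀ v w : V, v = w ↔ v + w = 0 := fun v w => by
    rw [← hneg w, ← sub_eq_add_neg, sub_eq_zero, hneg]
  have := Fintype.ofFinite V
  let N : V →ₗ[K] V := (f : V →ₗ[K] V) + LinearMap.id
  have hN : ∀ v, N v = f v + v := fun v => rfl
  have hself : ∀ v, v ≠ 0 → N v ≠ v := by
    intro v hv h
    rw [hN] at h
    have h1 : f v = 0 := by
      have := add_eq_right.1 h
      exact this
    exact hv (f.map_eq_zero_iff.1 h1)
  by_cases hk : ∃ a b : V, a ≠ 0 ∧ b ≠ 0 ∧ a ≠ b ∧ N a = 0 ∧ N b = 0
  · obtain ⟨a, b, ha, hb, hab, h1, h2⟩ := hk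
    refine ⟨a, b, ha, hb, hab, ?_⟩
    have hab' : a + b ≠ 0 := fun h => hab ((hsub a b).2 h)
    intro e he e' he'
    have h3 : N e = 0 := by
      rcases he with rfl | rfl | rfl
      · exact h1
      · exact h2
      · rw [map_add, h1, h2, add_zero]
    change N e ≠ e'
    rw [h3]
    rcases he' with rfl | rfl | rfl
    · exact ha.symm
    · exact hb.symm
    · exact hab'.symm
  · push Not at hk
    -- a vector which is not fixed
    obtain ⟨a, haN⟩ : ∃ a, N a ≠ 0 := by
      by_contra h
      push Not at h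
      obtain ⟨a, ha⟩ : ∃ a : V, a ∉ ({0} : Finset V) := by
        by_contra h1
        push Not at h1
        have h2 := Finset.card_le_card (fun x _ => h1 x : (Finset.univ : Finset V) ⊆ {0})
        rw [Finset.card_univ, ← Nat.card_eq_fintype_card, Finset.card_singleton] at h2
        omega
      obtain ⟨b, hb⟩ : ∃ b : V, b ∉ ({0, a} : Finset V) := by
        by_contra h1
        push Not at h1
        have h2 := Finset.card_le_card (fun x _ => h1 x : (Finset.univ : Finset V) ⊆ {0, a})
        have h3 := Finset.card_le_two (a := (0 : V)) (b := a)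
        rw [Finset.card_univ, ← Nat.card_eq_fintype_card] at h2
        omega
      simp only [Finset.mem_singleton] at ha
      simp only [Finset.mem_insert, Finset.mem_singleton, not_or] at hb
      exact hk a b ha hb.1 (Ne.symm hb.2) (h a) (h b)
    have ha0 : a ≠ 0 := by
      rintro rfl
      exact haN (map_zero _)
    -- the fibres of `N` have at most two elements
    have hfib : ∀ w : V, (Finset.univ.filter fun v => N v = w).card ≤ 2 := by
      intro w
      by_contra h
      rw [not_le, Finset.two_lt_card] at h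
      obtain ⟨x, hx, y, hy, z, hz, hxy, hxz, hyz⟩ := h
      simp only [Finset.mem_filter, Finset.mem_univ, true_and] at hx hy hz
      refine hk (x + y) (x + z) (fun h => hxy ((hsub _ _).2 h)) (fun h => hxz ((hsub _ _).2 h))
        (fun h => hyz (add_left_cancel h)) ?_ ?_
      · rw [map_add, hx, hy, hadd]
      · rw [map_add, hx, hz, hadd]
    let bad : Finset V := ({0, a, N a, a + N a} ∪ {f.symm a, f.symm (N a)}) ∪
      ((Finset.univ.filter fun v => N v = a) ∪ (Finset.univ.filter fun v => N v = N a + a))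
    have hbad : bad.card < Fintype.card V := by
      have h1 : bad.card ≤ (4 + 2) + (2 + 2) :=
        le_trans (Finset.card_union_le _ _) (add_le_add
          (le_trans (Finset.card_union_le _ _) (add_le_add Finset.card_le_four Finset.card_le_two))
          (le_trans (Finset.card_union_le _ _) (add_le_add (hfib _) (hfib _))))
      rw [← Nat.card_eq_fintype_card]
      omega
    obtain ⟨b, hb⟩ : ∃ b, b ∉ bad := by
      by_contra h
      push Not at h
      have h2 := Finset.card_le_card (fun x _ => h x : (Finset.univ : Finset V) ⊆ bad)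
      rw [Finset.card_univ] at h2
      omega
    simp only [bad, Finset.mem_union, Finset.mem_insert, Finset.mem_singleton, Finset.mem_filter, Finset.mem_univ,
      true_and, not_or] at hb
    obtain ⟨⟨⟨b0, b1, b2, b3⟩, b4, b5⟩, b6, b7⟩ := hb
    have hab' : a + b ≠ 0 := fun h => b1 ((hsub a b).2 h).symm
    refine ⟨a, b, ha0, b0, Ne.symm b1, ?_⟩
    intro e he e' he' h
    change N e = e' at h
    rcases he with he | he | he <;> rcases he' with he' | he' | he' <;> rw [he, he'] at h
    · exact hself _ ha0 h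
    · exact b2 h.symm
    · refine b3 ?_
      rw [h, ← add_assoc, hadd, zero_add]
    · exact b6 h
    · exact hself _ b0 h
    · refine b4 ?_
      rw [hN, add_left_inj] at h
      rw [← h, LinearEquiv.symm_apply_apply]
    · refine b7 ?_
      rw [map_add] at h
      calc N b = N a + (N a + N b) := by rw [← add_assoc, hadd, zero_add]
        _ = N a + a := by rw [h]
    · refine b5 ?_
      rw [map_add, hN b, ← add_assoc, add_eq_right] at h
      have h1 : f b = N a := by
        rw [hsub, add_comm]
        exact h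
      rw [← h1, LinearEquiv.symm_apply_apply]
    · exact hself _ hab' h

theorem disj (hK : Nat.card K = 2) {f : V →ₗ[K] V} {a b : V} (h : GP f a b) :
    Disjoint (Submodule.span K {a, b}) ((Submodule.span K {a, b}).map (f + LinearMap.id)) := by
  have hm : ∀ v ∈ Submodule.span K {a, b}, v = 0 ∨ v = a ∨ v = b ∨ v = a + b := by
    intro v hv
    obtain ⟨x, y, rfl⟩ := Submodule.mem_span_pair.1 hv
    rcases two hK x with rfl | rfl <;> rcases two hK y with rfl | rfl <;> simp
  rw [Submodule.disjoint_def]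
  rintro v hv ⟨w, hw, rfl⟩
  rcases hm w hw with rfl | hw
  · exact map_zero _
  · rcases hm _ hv with h1 | h1
    · exact h1
    · exact absurd rfl (h.h w hw _ h1)

theorem exists_basis (hK : Nat.card K = 2) (hV : finrank K V = 8) (f : V ≃ₗ[K] V) :
    ∃ B : Basis (Fin 2 ⊕ Fin 6) K V, ∀ i j : Fin 2, B.repr (f (B (Sum.inl j))) (Sum.inl i) =
      (1 : Matrix (Fin 2) (Fin 2) K) i j := by
  have hKf : Finite K := Nat.finite_of_card_ne_zero (by rw [hK]; norm_num)
  have : FiniteDimensional K V := FiniteDimensional.of_finrank_pos (by rw [hV]; norm_num)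
  have : Finite V := Module.finite_of_finite K
  have hc : Nat.card V = 2 ^ 8 := by rw [Module.natCard_eq_pow_finrank (K := K), hK, hV]
  obtain ⟨a, b, h⟩ := exists_gp hK (by rw [hc]; norm_num) f
  have hd := disj hK h
  have hne : ∀ x y : K, x • a + y • b = 0 → x = 0 ∧ y = 0 := by
    intro x y hxy
    have h2 : ∀ v : V, v + v = 0 := add_self hK
    rcases two hK x with rfl | rfl <;> rcases two hK y with rfl | rfl
    · exact ⟨rfl, rfl⟩
    · rw [zero_smul, one_smul, zero_add] at hxy
      exact absurd hxy h.b0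
    · rw [zero_smul, one_smul, add_zero] at hxy
      exact absurd hxy h.a0
    · rw [one_smul, one_smul] at hxy
      refine absurd ?_ h.ab
      calc a = a + (b + b) := by rw [h2, add_zero]
        _ = b := by rw [← add_assoc, hxy, zero_add]
  have hli : LinearIndependent K ![a, b] := by
    rw [LinearIndependent.pair_iff]
    exact hne
  set E := Submodule.span K {a, b} with hE
  have hE2 : finrank K E = 2 := by
    have h1 := finrank_span_eq_card hli
    rw [Fintype.card_fin] at h1
    rw [hE]
    have h2 : Set.range ![a, b] = {a, b} := by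
      rw [Matrix.range_cons, Matrix.range_cons, Matrix.range_empty, Set.union_empty]
      rfl
    rw [h2] at h1
    exact h1
  obtain ⟨F, hF, hc⟩ : ∃ F, Submodule.map ((f : V →ₗ[K] V) + LinearMap.id) E ≤ F ∧ IsCompl E F := by
    obtain ⟨C, hC⟩ := exists_isCompl (E ⊔ Submodule.map ((f : V →ₗ[K] V) + LinearMap.id) E)
    refine ⟨Submodule.map ((f : V →ₗ[K] V) + LinearMap.id) E ⊔ C, le_sup_left, ?_, ?_⟩
    · exact hd.disjoint_sup_right_of_disjoint_sup_left hC.disjoint
    · rw [codisjoint_iff, ← sup_assoc]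
      exact hC.sup_eq_top
  have hF6 : finrank K F = 6 := by
    have h1 := Submodule.finrank_add_eq_of_isCompl hc
    rw [hE2, hV] at h1
    omega
  let bE : Basis (Fin 2) K E := Module.finBasisOfFinrankEq K E hE2
  let bF : Basis (Fin 6) K F := Module.finBasisOfFinrankEq K F hF6
  let B : Basis (Fin 2 ⊕ Fin 6) K V := (bE.prod bF).map (Submodule.prodEquivOfIsCompl E F hc)
  have hBl : ∀ j, B (Sum.inl j) = (bE j : V) := by
    intro j
    simp [B]
  have hrE : ∀ (e : E) i, B.repr (e : V) (Sum.inl i) = bE.repr e i := by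
    intro e i
    simp [B]
  have hrF : ∀ (e : F) i, B.repr (e : V) (Sum.inl i) = 0 := by
    intro e i
    simp [B]
  refine ⟨B, fun i j => ?_⟩
  have h1 : f (B (Sum.inl j)) = ((bE j : V)) + (f (bE j : V) + (bE j : V)) := by
    rw [hBl, add_comm (f _), ← add_assoc, add_self hK, zero_add]
  have h2 : f (bE j : V) + (bE j : V) ∈ F := hF ⟨_, (bE j).2, rfl⟩
  rw [h1, map_add, Finsupp.add_apply, hrE, Basis.repr_self, hrF ⟨_, h2⟩, add_zero, Finsupp.single_apply,
    Matrix.one_apply]
  exact if_congr eq_comm rfl rfl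

end

/-- **Lemma B.** -/
theorem lemB (hK : Nat.card K = 2) (M : Matrix.SpecialLinearGroup (Fin 2 ⊕ Fin 6) K) :
    ∃ S : Matrix.SpecialLinearGroup (Fin 2 ⊕ Fin 6) K, (S * M * S⁻¹).1.toBlocks₁₁ = 1 := by
  obtain ⟨B, hB⟩ := exists_basis (V := Fin 2 ⊕ Fin 6 → K) hK (by simp)
    (Matrix.SpecialLinearGroup.toLin' M)
  let std : Basis (Fin 2 ⊕ Fin 6) K (Fin 2 ⊕ Fin 6 → K) := Pi.basisFun K _
  let S₀ : Matrix (Fin 2 ⊕ Fin 6) (Fin 2 ⊕ Fin 6) K := B.toMatrix std
  let S₁ : Matrix (Fin 2 ⊕ Fin 6) (Fin 2 ⊕ Fin 6) K := std.toMatrix B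
  have h01 : S₀ * S₁ = 1 := Basis.toMatrix_mul_toMatrix_flip _ _
  have hdet : S₀.det = 1 := by
    rcases two hK S₀.det with h | h
    · have h1 := congrArg Matrix.det h01
      rw [Matrix.det_mul, h, zero_mul, Matrix.det_one] at h1
      exact absurd h1 zero_ne_one
    · exact h
  let S : Matrix.SpecialLinearGroup (Fin 2 ⊕ Fin 6) K := ⟨S₀, hdet⟩
  have hinv : (S⁻¹).1 = S₁ := by
    have h1 : (S⁻¹).1 * S₀ = 1 := congrArg Subtype.val (inv_mul_cancel S)
    calc (S⁻¹).1 = (S⁻¹).1 * (S₀ * S₁) := by rw [h01, Matrix.mul_one]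
      _ = S₁ := by rw [← Matrix.mul_assoc, h1, Matrix.one_mul]
  refine ⟨S, ?_⟩
  have h2 : (S * M * S⁻¹).1 = LinearMap.toMatrix B B (Matrix.toLin' M.1) := by
    have h3 : LinearMap.toMatrix std std (Matrix.toLin' M.1) = M.1 := by
      rw [LinearMap.toMatrix_eq_toMatrix', LinearMap.toMatrix'_toLin']
    have h4 := basis_toMatrix_mul_linearMap_toMatrix_mul_basis_toMatrix B std B std (Matrix.toLin' M.1)
    rw [h3] at h4
    rw [← h4]
    change S₀ * M.1 * (S⁻¹).1 = S₀ * M.1 * S₁
    rw [hinv]
  ext i j
  rw [h2, Matrix.toBlocks₁₁, Matrix.of_apply, LinearMap.toMatrix_apply]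
  exact hB i j

end Cfsg.Agent.H207.E2

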